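import Groth.Prelude.Def_W4c5stacksedinertiaGpd
import Mathlib.GroupTheory.Index
import Mathlib.Algebra.Group.Subgroup.Finite
import Mathlib.Data.Fintype.CardEmbedding
import Mathlib.Data.Fin.Tuple.Basic

namespace Groth.Agent.Inertia52

open W4c5stacksedinertia

universe u v

variable {G : Type u} [Group G] {H : Type v} [Group H] {r : ℕ}

/-- The presentation is isomorphic to the group. -/
noncomputable def ofEquiv (G : Type u) [Group G] [Finite G] : (FinGrp.of G).carrier ≃* G where
  toEquiv := (Nat.equivFinOfCardPos (α := G) Nat.card_pos.ne').symm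
  map_mul' x y := (Nat.equivFinOfCardPos (α := G) Nat.card_pos.ne').symm_apply_apply _

theorem of_equiv [Finite G] [Finite H] (e : G ≃* H) : Idx.of G = Idx.of H :=
  Quotient.sound ⟨((ofEquiv G).trans e).trans (ofEquiv H).symm⟩

theorem rep_equiv [Finite G] : Nonempty ((Idx.of G).rep ≃* G) := by
  obtain ⟨e⟩ := Quotient.exact (Quotient.out_eq (Idx.of G))
  exact ⟨e.trans (ofEquiv G)⟩

theorem of_rep (i : Idx) : Idx.of i.rep = i := by
  refine Eq.trans (Quotient.sound ?_) (Quotient.out_eq i)
  exact ⟨ofEquiv i.rep⟩

theorem card_of [Finite G] : (Idx.of G).card = Nat.card G :=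
  Nat.card_congr (rep_equiv (G := G)).some.toEquiv

theorem centerCard_of [Finite G] : (Idx.of G).centerCard = Nat.card (Subgroup.center G) := by
  obtain ⟨e⟩ := rep_equiv (G := G)
  exact Nat.card_congr (Subgroup.centerCongr e).toEquiv

/-- The common centralizer of a tuple. -/
abbrev cent (s : CommTuple G r) : Subgroup G := Subgroup.centralizer (Set.range s.1)

theorem mem_cent {s : CommTuple G r} {g : G} : g ∈ cent s ↔ ∀ i, s.1 i * g = g * s.1 i := by
  simp [Subgroup.mem_centralizer_iff, Set.forall_mem_range]

theorem entry_mem_cent (s : CommTuple G r) (i : Fin r) : s.1 i ∈ cent s :=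
  mem_cent.mpr fun j => (s.2.2 j i).eq

theorem cent_conj [Finite G] {s t : CommTuple G r} (h : CommTuple.setoid G r s t) :
    Idx.of (cent s) = Idx.of (cent t) := by
  obtain ⟨g, hg⟩ := h
  have : (cent s).map (MulAut.conj g).toMonoidHom = cent t := by
    ext x
    constructor
    · rintro ⟨y, hy, rfl⟩
      refine mem_cent.mpr fun i => ?_
      rw [← hg i]
      simp only [MulEquiv.coe_toMonoidHom, MulAut.conj_apply]
      calc g * s.1 i * g⁻¹ * (g * y * g⁻¹) = g * (s.1 i * y) * g⁻¹ := by group
        _ = g * (y * s.1 i) * g⁻¹ := by rw [mem_cent.mp hy i]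
        _ = g * y * g⁻¹ * (g * s.1 i * g⁻¹) := by group
    · intro hx
      refine ⟨g⁻¹ * x * g, mem_cent.mpr fun i => ?_, by simp [mul_assoc]⟩
      have := mem_cent.mp hx i
      rw [← hg i] at this
      calc s.1 i * (g⁻¹ * x * g) = g⁻¹ * ((g * s.1 i * g⁻¹) * x) * g := by group
        _ = g⁻¹ * (x * (g * s.1 i * g⁻¹)) * g := by rw [this]
        _ = g⁻¹ * x * g * s.1 i := by group
  exact of_equiv ((Subgroup.equivMapOfInjective (cent s) (MulAut.conj g).toMonoidHom
    (MulEquiv.injective _)).trans (MulEquiv.subgroupCongr this))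

theorem cl_congr [Finite G] [Finite H] (h : Idx.of G = Idx.of H) : cl G = cl H := by
  unfold cl; rw [h]

instance [Finite G] : Finite (CommTuple G r) :=
  inferInstanceAs (Finite { s : Fin r → G // _ })

instance [Finite G] : Finite (CommTuple.Orbit G r) :=
  inferInstanceAs (Finite (Quotient (CommTuple.setoid G r)))

/-- The contribution of an orbit. -/
noncomputable def term [Finite G] : CommTuple.Orbit G r → K :=
  Quotient.lift (fun s => cl (cent s)) (fun _ _ h => cl_congr (cent_conj h))

theorem term_mk [Finite G] (s : CommTuple G r) :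
    term (Quotient.mk (CommTuple.setoid G r) s) = cl (cent s) := rfl

theorem inertiaROf_eq [Finite G] [Fintype (CommTuple.Orbit G r)] :
    inertiaROf r G = ∑ O : CommTuple.Orbit G r, term O := by
  rw [inertiaROf, finsum_eq_sum_of_fintype]
  refine Finset.sum_congr rfl fun O _ => ?_
  conv_rhs => rw [← Quotient.out_eq O]
  rfl

/-- Transport of tuples along an isomorphism. -/
def mapTuple (e : G ≃* H) (s : CommTuple G r) : CommTuple H r :=
  ⟨fun i => e (s.1 i), fun _ _ h => s.2.1 (e.injective h), fun i j => (s.2.2 i j).map e.toMonoidHom⟩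

theorem inertiaROf_congr [Finite G] [Finite H] (e : G ≃* H) (r : ℕ) :
    inertiaROf r G = inertiaROf r H := by
  classical
  haveI := Fintype.ofFinite (CommTuple.Orbit G r)
  haveI := Fintype.ofFinite (CommTuple.Orbit H r)
  rw [inertiaROf_eq, inertiaROf_eq]
  let E : CommTuple G r ≃ CommTuple H r :=
    { toFun := mapTuple e, invFun := mapTuple e.symm,
      left_inv := fun s => Subtype.ext (funext fun i => e.symm_apply_apply _),
      right_inv := fun s => Subtype.ext (funext fun i => e.apply_symm_apply _) }
  let Q : CommTuple.Orbit G r ≃ CommTuple.Orbit H r := Quotient.congr E fun s t => by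
    constructor
    · rintro ⟨g, hg⟩
      exact ⟨e g, fun i => by show e g * e (s.1 i) * (e g)⁻¹ = e (t.1 i); rw [← hg i]; simp⟩
    · rintro ⟨g, hg⟩
      refine ⟨e.symm g, fun i => e.injective ?_⟩
      have := hg i
      simp [E, mapTuple] at this ⊢
      exact this
  refine Fintype.sum_equiv Q _ _ fun O => ?_
  induction O using Quotient.inductionOn with
  | _ s =>
    show cl (cent s) = cl (cent (mapTuple e s))
    apply cl_congr
    refine of_equiv ((Subgroup.equivMapOfInjective _ e.toMonoidHom e.injective).trans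
      (MulEquiv.subgroupCongr ?_))
    ext x
    constructor
    · rintro ⟨y, hy, rfl⟩
      exact mem_cent.mpr fun i => by simp [mapTuple, ← map_mul, mem_cent.mp hy i]
    · intro hx
      refine ⟨e.symm x, mem_cent.mpr fun i => e.injective ?_, by simp⟩
      simpa [mapTuple] using mem_cent.mp hx i

theorem inertiaR_cl [Finite G] (r : ℕ) : inertiaR r (cl G) = inertiaROf r G := by
  rw [cl, inertiaR, Finsupp.linearCombination_single, one_smul]
  exact inertiaROf_congr (rep_equiv (G := G)).some r

theorem single_eq_cl (i : Idx) : Finsupp.single i (1 : ℚ) = cl i.rep := by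
  rw [cl, of_rep]

/-- A single element as a tuple. -/
def one' (x : G) : CommTuple G 1 :=
  ⟨fun _ => x, fun a b _ => Subsingleton.elim a b, fun _ _ => Commute.refl _⟩

theorem one'_eq (t : CommTuple G 1) : one' (t.1 0) = t :=
  Subtype.ext (funext fun i => by rw [Subsingleton.elim i 0]; rfl)

/-- The truncation of a tuple. -/
def initT (t : CommTuple G (r + 1)) : CommTuple G r :=
  ⟨Fin.init t.1, fun a b h => Fin.castSucc_injective r (t.2.1 h), fun _ _ => t.2.2 _ _⟩

/-- The truncation of an orbit. -/
def initO : CommTuple.Orbit G (r + 1) → CommTuple.Orbit G r :=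
  Quotient.lift (fun t => Quotient.mk _ (initT t)) fun _ _ ⟨g, hg⟩ =>
    Quotient.sound ⟨g, fun i => hg i.castSucc⟩

/-- The extension of a tuple. -/
def snocT (s : CommTuple G r) (x : cent s) (hx : ∀ i, s.1 i ≠ x) : CommTuple G (r + 1) :=
  ⟨Fin.snoc s.1 (x : G), Fin.snoc_injective_iff.mpr ⟨s.2.1, by rintro ⟨i, hi⟩; exact hx i hi⟩, by
    have hc : ∀ i, Commute (s.1 i) (x : G) := mem_cent.mp x.2
    intro i j
    refine Fin.lastCases ?_ (fun a => ?_) i <;> refine Fin.lastCases ?_ (fun b => ?_) j
    · simp
    · simpa using (hc b).symm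
    · simpa using hc a
    · simpa using s.2.2 a b⟩

theorem inertia_inertiaROf [Finite G] (r : ℕ) :
    inertia (inertiaROf r G) = inertiaROf (r + 1) G + (r : ℚ) • inertiaROf r G := by
  classical
  haveI := Fintype.ofFinite (CommTuple.Orbit G r)
  haveI := Fintype.ofFinite (CommTuple.Orbit G (r + 1))
  rw [inertiaROf_eq, inertiaROf_eq, map_sum, Finset.smul_sum,
    ← Finset.sum_fiberwise Finset.univ (initO (G := G) (r := r)) (fun O => term O),
    ← Finset.sum_add_distrib]
  refine Finset.sum_congr rfl fun O _ => ?_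
  induction O using Quotient.inductionOn with
  | _ s =>
  haveI : Fintype (CommTuple.Orbit (cent s) 1) := Fintype.ofFinite _
  rw [term_mk, inertia, inertiaR_cl, inertiaROf_eq]
  let val : CommTuple.Orbit (cent s) 1 → Prop := fun X => ∃ i, s.1 i = ((Quotient.out X).1 0 : G)
  have hconj : ∀ {x y : cent s}, CommTuple.setoid (cent s) 1 (one' x) (one' y) →
      ∀ i, s.1 i = (x : G) → s.1 i = (y : G) := by
    rintro x y ⟨g, hg⟩ i hi
    have h0 : g * x * g⁻¹ = y := hg 0
    rw [← h0]
    simp only [Subgroup.coe_mul, Subgroup.coe_inv, ← hi]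
    rw [← mem_cent.mp g.2 i, mul_inv_cancel_right]
  have hout : ∀ X : CommTuple.Orbit (cent s) 1, Quotient.mk _ (one' ((Quotient.out X).1 0)) = X := by
    intro X; exact (congrArg (Quotient.mk _) (one'_eq _)).trans (Quotient.out_eq X)
  rw [← Finset.sum_filter_add_sum_filter_not Finset.univ val, add_comm]
  congr 1
  · refine Finset.sum_bij (fun X hX => Quotient.mk (CommTuple.setoid G (r + 1))
      (snocT s ((Quotient.out X).1 0) (fun i hi => (Finset.mem_filter.mp hX).2 ⟨i, hi⟩))) ?_ ?_ ?_ ?_
    · intro X hX
      refine Finset.mem_filter.mpr ⟨Finset.mem_univ _, ?_⟩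
      show Quotient.mk _ (initT (snocT s _ _)) = Quotient.mk _ s
      congr 1
      exact Subtype.ext (by simp [initT, snocT])
    · intro X hX Y hY h
      obtain ⟨g, hg⟩ := Quotient.exact h
      have hgc : g ∈ cent s := mem_cent.mpr fun i => by
        have := hg i.castSucc
        simp [snocT] at this
        exact (mul_inv_eq_iff_eq_mul.mp this).symm
      rw [← hout X, ← hout Y]
      refine Quotient.sound ⟨⟨g, hgc⟩, fun i => Subtype.ext ?_⟩
      simpa [snocT, one'] using hg (Fin.last r)
    · intro T hT
      induction T using Quotient.inductionOn with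
      | _ t =>
      obtain ⟨g, hg⟩ := Quotient.exact ((Finset.mem_filter.mp hT).2)
      have hg' : ∀ i, g * t.1 i.castSucc * g⁻¹ = s.1 i := hg
      let x : cent s := ⟨g * t.1 (Fin.last r) * g⁻¹, mem_cent.mpr fun i => by
        rw [← hg' i]
        exact ((t.2.2 i.castSucc (Fin.last r)).map (MulAut.conj g).toMonoidHom).eq⟩
      have hx : ∀ i, s.1 i ≠ (x : G) := fun i hi => by
        have h1 : g * t.1 i.castSucc * g⁻¹ = g * t.1 (Fin.last r) * g⁻¹ := by rw [hg' i]; exact hi
        have := t.2.1 (mul_left_cancel (mul_right_cancel h1))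
        exact (Fin.castSucc_lt_last i).ne this
      let X : CommTuple.Orbit (cent s) 1 := Quotient.mk _ (one' x)
      obtain ⟨c, hc⟩ := Quotient.exact (Quotient.out_eq X)
      have hX : X ∈ Finset.univ.filter (fun X => ¬ val X) := by
        simp only [Finset.mem_filter, Finset.mem_univ, true_and]
        rintro ⟨i, hi⟩
        refine hx i (hconj ?_ i hi)
        rw [one'_eq]
        exact Quotient.exact (Quotient.out_eq X)
      refine ⟨X, hX, Quotient.sound ?_⟩
      refine ⟨g⁻¹ * (c : G), fun i => ?_⟩
      refine Fin.lastCases ?_ (fun a => ?_) i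
      · simp only [snocT, Fin.snoc_last]
        have h0 := congrArg Subtype.val (hc 0)
        simp only [Subgroup.coe_mul, Subgroup.coe_inv, one'] at h0
        calc g⁻¹ * (c : G) * ((Quotient.out X).1 0 : G) * (g⁻¹ * (c : G))⁻¹
            = g⁻¹ * ((c : G) * ((Quotient.out X).1 0 : G) * (c : G)⁻¹) * g := by group
          _ = g⁻¹ * (g * t.1 (Fin.last r) * g⁻¹) * g := by rw [h0]
          _ = t.1 (Fin.last r) := by group
      · simp only [snocT, Fin.snoc_castSucc]
        calc g⁻¹ * (c : G) * s.1 a * (g⁻¹ * (c : G))⁻¹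
            = g⁻¹ * ((c : G) * s.1 a) * (c : G)⁻¹ * g := by group
          _ = g⁻¹ * (s.1 a * (c : G)) * (c : G)⁻¹ * g := by rw [mem_cent.mp c.2 a]
          _ = t.1 a.castSucc := by rw [← hg' a]; group
    · intro X hX
      rw [term_mk]
      conv_lhs => rw [← hout X, term_mk]
      apply cl_congr
      set x := (Quotient.out X).1 0
      have : (cent (one' x)).map (cent s).subtype = cent (snocT s x
          (fun i hi => (Finset.mem_filter.mp hX).2 ⟨i, hi⟩)) := by
        ext y
        constructor
        · rintro ⟨z, hz, rfl⟩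
          refine mem_cent.mpr (Fin.lastCases ?_ fun a => ?_)
          · simpa [snocT, one'] using congrArg Subtype.val (mem_cent.mp hz 0)
          · simpa [snocT] using mem_cent.mp z.2 a
        · intro hy
          have hys : y ∈ cent s := mem_cent.mpr fun a => by simpa [snocT] using mem_cent.mp hy a.castSucc
          refine ⟨⟨y, hys⟩, mem_cent.mpr fun i => Subtype.ext ?_, rfl⟩
          simpa [snocT, one'] using mem_cent.mp hy (Fin.last r)
      exact of_equiv ((Subgroup.equivMapOfInjective _ (cent s).subtype Subtype.val_injective).trans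
        (MulEquiv.subgroupCongr this))
  · let f : Fin r → CommTuple.Orbit (cent s) 1 := fun i =>
      Quotient.mk _ (one' ⟨s.1 i, entry_mem_cent s i⟩)
    have hfv : ∀ i, (((Quotient.out (f i)).1 0 : cent s) : G) = s.1 i := by
      intro i
      refine (hconj (x := ⟨s.1 i, entry_mem_cent s i⟩) ?_ i rfl).symm
      rw [one'_eq]
      exact (CommTuple.setoid (cent s) 1).symm (Quotient.exact (Quotient.out_eq (f i)))
    have hf : Function.Injective f := fun i j h => by
      have h1 := hfv i
      rw [h, hfv j] at h1
      exact (s.2.1 h1).symm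
    have hS : Finset.univ.filter val = Finset.univ.image f := by
      ext X
      simp only [Finset.mem_filter, Finset.mem_univ, true_and, Finset.mem_image]
      constructor
      · rintro ⟨i, hi⟩
        refine ⟨i, ?_⟩
        rw [← hout X]
        show Quotient.mk _ (one' _) = _
        congr 2
        exact Subtype.ext hi
      · rintro ⟨i, rfl⟩
        exact ⟨i, (hfv i).symm⟩
    rw [hS, Finset.sum_image hf.injOn]
    have : ∀ i, term (f i) = cl (cent s) := fun i => by
      rw [term_mk]
      apply cl_congr
      have htop : cent (one' (⟨s.1 i, entry_mem_cent s i⟩ : cent s)) = ⊤ :=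
        eq_top_iff.mpr fun z _ => mem_cent.mpr fun _ => Subtype.ext (mem_cent.mp z.2 i)
      exact of_equiv ((MulEquiv.subgroupCongr htop).trans Subgroup.topEquiv)
    rw [Finset.sum_congr rfl fun i _ => this i, Finset.sum_const, Finset.card_univ, Fintype.card_fin,
      Nat.cast_smul_eq_nsmul ℚ]

theorem inertiaR_zero_eq : inertiaR 0 = LinearMap.id := by
  refine Finsupp.lhom_ext' fun i => LinearMap.ext_ring ?_
  simp only [LinearMap.comp_apply, Finsupp.lsingle_apply, LinearMap.id_apply]
  rw [single_eq_cl, inertiaR_cl]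
  classical
  let s : CommTuple i.rep 0 := ⟨Fin.elim0, fun a => a.elim0, fun a => a.elim0⟩
  haveI : Unique (CommTuple.Orbit i.rep 0) :=
    { default := Quotient.mk _ s
      uniq := fun X => by
        induction X using Quotient.inductionOn with
        | _ t => exact Quotient.sound ⟨1, fun a => a.elim0⟩ }
  haveI := Fintype.ofFinite (CommTuple.Orbit i.rep 0)
  rw [inertiaROf_eq, Fintype.sum_unique]
  refine Eq.trans (congrArg term ((Unique.uniq _ (Quotient.mk (CommTuple.setoid i.rep 0) s)).symm : (default : CommTuple.Orbit i.rep 0) = Quotient.mk _ s)) ?_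
  show cl (cent s) = _
  apply cl_congr
  have htop : cent s = ⊤ := eq_top_iff.mpr fun z _ => mem_cent.mpr fun a => a.elim0
  exact of_equiv ((MulEquiv.subgroupCongr htop).trans Subgroup.topEquiv)

theorem inertiaR_succ (r : ℕ) (v : K) :
    inertiaR (r + 1) v = inertia (inertiaR r v) - (r : ℚ) • inertiaR r v := by
  have h : inertiaR (r + 1) = inertia ∘ₗ inertiaR r - (r : ℚ) • inertiaR r := by
    refine Finsupp.lhom_ext' fun i => LinearMap.ext_ring ?_
    simp only [LinearMap.comp_apply, Finsupp.lsingle_apply, LinearMap.sub_apply, LinearMap.smul_apply]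
    rw [single_eq_cl, inertiaR_cl, inertiaR_cl, inertia_inertiaROf, add_sub_cancel_right]
  exact LinearMap.congr_fun h v

theorem inertiaR_eigen (r k : ℕ) (v : K) (hv : inertia v = (k : ℚ) • v) :
    inertiaR r v = ((k.descFactorial r : ℕ) : ℚ) • v := by
  induction r with
  | zero => simp [inertiaR_zero_eq]
  | succ r ih =>
    rw [inertiaR_succ, ih, map_smul, hv, smul_smul, smul_smul, ← sub_smul, Nat.descFactorial_succ]
    congr 1
    rcases Nat.lt_or_ge k r with h | h
    · rw [Nat.descFactorial_eq_zero_iff_lt.mpr h]; simp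
    · rw [Nat.cast_mul, Nat.cast_sub h]; ring

theorem inertiaROf_split [Finite G] (r : ℕ) :
    ∃ w, inertiaROf r G = ((Nat.card (Subgroup.center G)).descFactorial r : ℚ) • cl G + w ∧
      w ∈ Finsupp.supported ℚ ℚ
        {j : Idx | Nat.card (Subgroup.center G) < j.centerCard ∧ j.card < Nat.card G} := by
  classical
  haveI := Fintype.ofFinite (CommTuple.Orbit G r)
  haveI := Fintype.ofFinite (Subgroup.center G)
  let cen : CommTuple.Orbit G r → Prop := fun O => ∀ i, (Quotient.out O).1 i ∈ Subgroup.center G
  refine ⟨∑ O ∈ Finset.univ.filter (fun O => ¬ cen O), term O, ?_, ?_⟩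
  · rw [inertiaROf_eq, ← Finset.sum_filter_add_sum_filter_not Finset.univ cen]
    congr 1
    have hterm : ∀ O ∈ Finset.univ.filter cen, term O = cl G := by
      intro O hO
      have h := (Finset.mem_filter.mp hO).2
      rw [← Quotient.out_eq O, term_mk]
      apply cl_congr
      have htop : cent (Quotient.out O) = ⊤ :=
        eq_top_iff.mpr fun z _ => mem_cent.mpr fun i => ((Subgroup.mem_center_iff.mp (h i)) z).symm
      exact of_equiv ((MulEquiv.subgroupCongr htop).trans Subgroup.topEquiv)
    rw [Finset.sum_congr rfl hterm, Finset.sum_const, ← Nat.cast_smul_eq_nsmul ℚ]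
    congr 2
    rw [Nat.card_eq_fintype_card]
    conv_rhs => rw [← Fintype.card_fin r, ← Fintype.card_embedding_eq]
    rw [← Finset.card_univ (α := Fin r ↪ Subgroup.center G)]
    refine Finset.card_bij (fun O hO => ⟨fun i => ⟨(Quotient.out O).1 i, (Finset.mem_filter.mp hO).2 i⟩,
      fun a b h => (Quotient.out O).2.1 (congrArg Subtype.val h)⟩) (fun _ _ => Finset.mem_univ _) ?_ ?_
    · intro O₁ h₁ O₂ h₂ h
      rw [← Quotient.out_eq O₁, ← Quotient.out_eq O₂]
      congr 1
      exact Subtype.ext (funext fun i => congrArg (fun f : Fin r ↪ Subgroup.center G => (f i : G)) h)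
    · intro f _
      let t : CommTuple G r := ⟨fun i => (f i : G), fun a b h => f.injective (Subtype.ext h),
        fun i j => ((Subgroup.mem_center_iff.mp (f i).2) (f j : G)).symm⟩
      obtain ⟨g, hg⟩ := Quotient.exact (Quotient.out_eq (Quotient.mk (CommTuple.setoid G r) t))
      have hval : ∀ i, (Quotient.out (Quotient.mk (CommTuple.setoid G r) t)).1 i = (f i : G) := by
        intro i
        have h1 := hg i
        have h2 : (Quotient.out (Quotient.mk (CommTuple.setoid G r) t)).1 i = g⁻¹ * (f i : G) * g := by
          rw [show (f i : G) = t.1 i from rfl, ← h1]; group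
        rw [h2, mul_assoc, ← Subgroup.mem_center_iff.mp (f i).2 g, inv_mul_cancel_left]
      exact ⟨_, Finset.mem_filter.mpr ⟨Finset.mem_univ _, fun i => by rw [hval]; exact (f i).2⟩,
        DFunLike.ext _ _ fun i => Subtype.ext (hval i)⟩
  · refine Submodule.sum_mem _ fun O hO => ?_
    have hn : ¬ cen O := (Finset.mem_filter.mp hO).2
    simp only [cen, not_forall] at hn
    obtain ⟨i, hi⟩ := hn
    rw [← Quotient.out_eq O, term_mk]
    set s := Quotient.out O
    rw [Finsupp.mem_supported]
    intro j hj
    have hj' : j = Idx.of (cent s) := by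
      simpa [cl, Finsupp.support_single_ne_zero] using hj
    subst hj'
    refine ⟨?_, ?_⟩
    · rw [centerCard_of]
      let φ : Subgroup.center G → Subgroup.center (cent s) := fun z =>
        ⟨⟨z, mem_cent.mpr fun a => Subgroup.mem_center_iff.mp z.2 _⟩,
          Subgroup.mem_center_iff.mpr fun y => Subtype.ext (Subgroup.mem_center_iff.mp z.2 _)⟩
      refine Nat.lt_of_le_of_ne (Nat.card_le_card_of_injective φ fun a b h => Subtype.ext
        (congrArg (fun z : Subgroup.center (cent s) => ((z : cent s) : G)) h)) fun he => ?_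
      haveI := Fintype.ofFinite (Subgroup.center (cent s))
      have hb : Function.Bijective φ := (Fintype.bijective_iff_injective_and_card φ).mpr
        ⟨fun a b h => Subtype.ext
          (congrArg (fun z : Subgroup.center (cent s) => ((z : cent s) : G)) h),
          by rwa [Nat.card_eq_fintype_card, Nat.card_eq_fintype_card] at he⟩
      obtain ⟨z, hz⟩ := hb.2 ⟨⟨s.1 i, entry_mem_cent s i⟩,
        Subgroup.mem_center_iff.mpr fun y => Subtype.ext (mem_cent.mp y.2 i).symm⟩
      have hz' : (z : G) = s.1 i := congrArg (fun z : Subgroup.center (cent s) => ((z : cent s) : G)) hz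
      exact hi (hz' ▸ z.2)
    · rw [card_of]
      refine Nat.lt_of_le_of_ne ((cent s).card_le_card_group) fun he => ?_
      have htop : cent s = ⊤ := (cent s).eq_top_of_card_eq he
      refine hi (Subgroup.mem_center_iff.mpr fun g => ?_)
      have hg : g ∈ cent s := htop ▸ Subgroup.mem_top g
      exact (mem_cent.mp hg i).symm

end Groth.Agent.Inertia52
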