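import Groth.Agent.Inertia52.Basic
import Mathlib.LinearAlgebra.Eigenspace.Basic
import Mathlib.GroupTheory.Subgroup.Center
import Mathlib.Data.ZMod.Basic
import Mathlib.Data.Nat.Choose.Sum
import Mathlib.Tactic.LinearCombination
import Mathlib.Tactic.FieldSimp

namespace Groth.Agent.Inertia52

open W4c5stacksedinertia

theorem inertiaR_single (r : ℕ) (i : Idx) :
    ∃ w, inertiaR r (Finsupp.single i 1) =
        ((i.centerCard).descFactorial r : ℚ) • Finsupp.single i 1 + w ∧
      w ∈ Finsupp.supported ℚ ℚ {j : Idx | i.centerCard < j.centerCard ∧ j.card < i.card} := by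
  obtain ⟨w, hw, hw'⟩ := inertiaROf_split (G := i.rep) r
  refine ⟨w, ?_, hw'⟩
  rw [single_eq_cl, inertiaR_cl, hw]
  rfl

theorem supported_induction {S : Set Idx} {P : K → Prop} (v : K) (hv : v ∈ Finsupp.supported ℚ ℚ S)
    (h0 : P 0) (hadd : ∀ x y, P x → P y → P (x + y)) (hsmul : ∀ (c : ℚ) x, P x → P (c • x))
    (hs : ∀ i ∈ S, P (Finsupp.single i 1)) : P v := by
  rw [Finsupp.supported_eq_span_single] at hv
  induction hv using Submodule.span_induction with
  | mem x hx => obtain ⟨i, hi, rfl⟩ := hx; exact hs i hi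
  | zero => exact h0
  | add x y _ _ hx hy => exact hadd x y hx hy
  | smul c x _ hx => exact hsmul c x hx

/-- The span of the eigenspaces with eigenvalue at least a bound. -/
noncomputable def eigGe (z : ℕ) : Submodule ℚ K :=
  ⨆ k, ⨆ (_ : z ≤ k), Module.End.eigenspace inertia (k : ℚ)

theorem eigGe_mono {z z' : ℕ} (h : z ≤ z') : eigGe z' ≤ eigGe z :=
  iSup₂_le fun k hk => le_iSup₂_of_le k (h.trans hk) le_rfl

theorem exists_solve (z : ℕ) (w : K) (hw : w ∈ eigGe (z + 1)) :
    ∃ u ∈ eigGe (z + 1), inertia u - (z : ℚ) • u = w := by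
  have hle : eigGe (z + 1) ≤ (eigGe (z + 1)).map (inertia - (z : ℚ) • LinearMap.id) := by
    refine iSup₂_le fun k hk x hx => ?_
    have hx' : inertia x = (k : ℚ) • x := Module.End.mem_eigenspace_iff.mp hx
    have hne : (k : ℚ) - z ≠ 0 := by
      rw [sub_ne_zero]; exact_mod_cast (show k ≠ z by omega)
    refine ⟨((k : ℚ) - z)⁻¹ • x, Submodule.smul_mem _ _ ?_, ?_⟩
    · exact Submodule.mem_iSup_of_mem k (Submodule.mem_iSup_of_mem hk hx)
    · simp only [LinearMap.sub_apply, LinearMap.smul_apply, LinearMap.id_apply, map_smul, hx']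
      rw [← sub_smul, smul_smul, inv_mul_cancel₀ hne, one_smul]
  obtain ⟨u, hu, he⟩ := hle hw
  exact ⟨u, hu, he⟩

theorem single_mem_eigGe : ∀ (n : ℕ) (i : Idx), i.card = n → Finsupp.single i (1 : ℚ) ∈ eigGe i.centerCard := by
  intro n
  induction n using Nat.strong_induction_on with
  | _ n ih =>
  intro i hi
  obtain ⟨w, hw, hw'⟩ := inertiaR_single 1 i
  have hwE : w ∈ eigGe (i.centerCard + 1) :=
    supported_induction (P := fun x => x ∈ eigGe (i.centerCard + 1)) w hw' (zero_mem _)
      (fun _ _ => add_mem) (fun c _ h => Submodule.smul_mem _ c h)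
      (fun j hj => eigGe_mono hj.1 (ih j.card (hi ▸ hj.2) j rfl))
  obtain ⟨u, hu, hue⟩ := exists_solve _ w hwE
  have he : Finsupp.single i (1 : ℚ) - u ∈ Module.End.eigenspace inertia (i.centerCard : ℚ) := by
    rw [Module.End.mem_eigenspace_iff, map_sub, hw, smul_sub, ← hue, Nat.descFactorial_one]
    abel
  have := add_mem (show Finsupp.single i (1 : ℚ) - u ∈ eigGe i.centerCard from
    Submodule.mem_iSup_of_mem _ (Submodule.mem_iSup_of_mem le_rfl he)) (eigGe_mono (Nat.le_succ _) hu)
  simpa using this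

theorem mem_eigGe_one (v : K) : v ∈ eigGe 1 := by
  refine supported_induction (P := fun x => x ∈ eigGe 1) (S := Set.univ) v
    (by rw [Finsupp.supported_univ]; trivial) (zero_mem _) (fun _ _ => add_mem)
    (fun c _ h => Submodule.smul_mem _ c h) (fun j _ => ?_)
  refine eigGe_mono ?_ (single_mem_eigGe _ j rfl)
  exact Nat.card_pos

theorem eigGe_induction {P : K → Prop} (v : K) (h0 : P 0) (hadd : ∀ x y, P x → P y → P (x + y))
    (he : ∀ k : ℕ, 0 < k → ∀ x : K, inertia x = (k : ℚ) • x → P x) : P v := by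
  have h := mem_eigGe_one v
  rw [eigGe, iSup_subtype'] at h
  refine Submodule.iSup_induction _ (motive := P) h ?_ h0 hadd
  exact fun k x hx => he k k.2 x (Module.End.mem_eigenspace_iff.mp hx)

theorem eigen_index (μ : ℚ) (hμ : Module.End.HasEigenvalue inertia μ) :
    ∃ k : ℕ, 0 < k ∧ μ = k := by
  by_contra hne
  push Not at hne
  refine (hμ : Module.End.eigenspace inertia μ ≠ ⊥) (disjoint_self.mp
    (Disjoint.mono_right ?_ (Module.End.eigenspaces_iSupIndep inertia μ)))
  intro x _
  refine eigGe_induction (P := fun y => y ∈ ⨆ (ν : ℚ) (_ : ν ≠ μ), Module.End.eigenspace inertia ν) x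
    (zero_mem _) (fun _ _ => add_mem) (fun k hk y hy => ?_)
  exact Submodule.mem_iSup_of_mem (k : ℚ)
    (Submodule.mem_iSup_of_mem (fun h => hne k hk h.symm) (Module.End.mem_eigenspace_iff.mpr hy))

theorem hasEigenvalue_nat (n : ℕ) (hn : 0 < n) : Module.End.HasEigenvalue inertia (n : ℚ) := by
  haveI : NeZero n := ⟨hn.ne'⟩
  haveI : Finite (Multiplicative (ZMod n)) := Finite.of_equiv (ZMod n) Multiplicative.ofAdd
  have hc : ∀ i : Idx, i = Idx.of (Multiplicative (ZMod n)) → i.centerCard = n ∧ i.card = n := by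
    rintro i rfl
    refine ⟨?_, ?_⟩
    · rw [centerCard_of, CommGroup.center_eq_top, Subgroup.card_top]
      exact (Nat.card_congr Multiplicative.toAdd).trans (Nat.card_zmod n)
    · rw [card_of]
      exact (Nat.card_congr Multiplicative.toAdd).trans (Nat.card_zmod n)
  obtain ⟨h1, h2⟩ := hc _ rfl
  obtain ⟨w, hw, hw'⟩ := inertiaR_single 1 (Idx.of (Multiplicative (ZMod n)))
  have : w = 0 := by
    refine supported_induction (P := fun x => x = 0) w hw' rfl (fun x y hx hy => by rw [hx, hy, add_zero])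
      (fun c x hx => by rw [hx, smul_zero]) (fun j hj => ?_)
    exfalso
    have h3 : j.centerCard ≤ j.card := Subgroup.card_le_card_group _
    obtain ⟨hj1, hj2⟩ := hj
    omega
  rw [this, add_zero, Nat.descFactorial_one, h1] at hw
  exact Module.End.hasEigenvalue_of_hasEigenvector
    ⟨Module.End.mem_eigenspace_iff.mpr hw, by simp⟩

theorem alternating_choose (j k : ℕ) :
    ∑ r ∈ Finset.range (j + 1), ((-1 : ℚ) ^ (r + k)) * (r.choose k : ℚ) * (j.choose r : ℚ) =
      if j = k then 1 else 0 := by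
  rcases Nat.lt_or_ge j k with hjk | hjk
  · rw [if_neg (by omega)]
    refine Finset.sum_eq_zero fun r hr => ?_
    rw [Finset.mem_range] at hr
    simp [Nat.choose_eq_zero_of_lt (show r < k by omega)]
  obtain ⟨m, rfl⟩ := Nat.exists_eq_add_of_le hjk
  have e : k + m + 1 = k + (m + 1) := by omega
  rw [e, Finset.sum_range_add, Finset.sum_eq_zero (fun r hr => by
    rw [Finset.mem_range] at hr; simp [Nat.choose_eq_zero_of_lt hr]), zero_add]
  have h2 : ∀ i ∈ Finset.range (m + 1), ((-1 : ℚ) ^ (k + i + k)) * ((k + i).choose k : ℚ) * ((k + m).choose (k + i) : ℚ)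
      = ((k + m).choose k : ℚ) * ((-1 : ℚ) ^ i * (m.choose i : ℚ)) := by
    intro i hi
    rw [Finset.mem_range] at hi
    have h := Nat.choose_mul (n := k + m) (show k ≤ k + i by omega)
    have hp : ((-1 : ℚ) ^ (k + i + k)) = (-1) ^ i := by
      rw [show k + i + k = i + 2 * k by omega, pow_add, pow_mul]; simp
    rw [hp, show k + m - k = m by omega, show k + i - k = i by omega] at *
    have hc : ((k + m).choose (k + i) : ℚ) * ((k + i).choose k : ℚ) = ((k + m).choose k : ℚ) * (m.choose i : ℚ) := by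
      exact_mod_cast h
    linear_combination ((-1 : ℚ) ^ i) * hc
  rw [Finset.sum_congr rfl h2, ← Finset.mul_sum]
  have h3 : ∑ i ∈ Finset.range (m + 1), (-1 : ℚ) ^ i * (m.choose i : ℚ) = if m = 0 then 1 else 0 := by
    exact_mod_cast Int.alternating_sum_range_choose (n := m)
  rw [h3]
  rcases Nat.eq_zero_or_pos m with rfl | hm
  · simp
  · rw [if_neg (by omega), if_neg (by omega), mul_zero]

theorem bounded (v : K) : ∃ N : ℕ, ∀ r, N ≤ r → inertiaR r v = 0 := by
  refine eigGe_induction (P := fun v => ∃ N : ℕ, ∀ r, N ≤ r → inertiaR r v = 0) v ⟨0, fun r _ => map_zero _⟩ ?_ ?_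
  · rintro x y ⟨N, hN⟩ ⟨M, hM⟩
    exact ⟨max N M, fun r hr => by rw [map_add, hN r (le_of_max_le_left hr), hM r (le_of_max_le_right hr), add_zero]⟩
  · intro k _ x hx
    exact ⟨k + 1, fun r hr => by rw [inertiaR_eigen r k x hx, Nat.descFactorial_eq_zero_iff_lt.mpr (by omega)]; simp⟩

/-- The projection coefficient. -/
noncomputable def coef (k r : ℕ) : ℚ := ((-1 : ℚ) ^ (r + k)) / (Nat.factorial r : ℚ) * (Nat.choose r k : ℚ)

/-- The candidate projection. -/
noncomputable def proj (k : ℕ) (v : K) : K := ∑ᶠ r : ℕ, coef k r • inertiaR r v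

theorem proj_eq_sum (k : ℕ) (v : K) {N : ℕ} (hN : ∀ r, N ≤ r → inertiaR r v = 0) :
    proj k v = ∑ r ∈ Finset.range N, coef k r • inertiaR r v := by
  refine finsum_eq_sum_of_support_subset _ fun r hr => ?_
  rw [Finset.coe_range, Set.mem_Iio]
  by_contra h
  exact hr (by simp only [hN r (not_lt.mp h), smul_zero])

theorem proj_add (k : ℕ) (x y : K) : proj k (x + y) = proj k x + proj k y := by
  obtain ⟨N, hN⟩ := bounded x
  obtain ⟨M, hM⟩ := bounded y
  have hN' : ∀ r, max N M ≤ r → inertiaR r x = 0 := fun r hr => hN r (le_of_max_le_left hr)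
  have hM' : ∀ r, max N M ≤ r → inertiaR r y = 0 := fun r hr => hM r (le_of_max_le_right hr)
  rw [proj_eq_sum k x hN', proj_eq_sum k y hM',
    proj_eq_sum k (x + y) (fun r hr => by rw [map_add, hN' r hr, hM' r hr, add_zero]), ← Finset.sum_add_distrib]
  simp only [map_add, smul_add]

theorem proj_eigen (k j : ℕ) (v : K) (hv : inertia v = (j : ℚ) • v) :
    proj k v = if j = k then v else 0 := by
  rw [proj_eq_sum k v (N := j + 1) (fun r hr => by
    rw [inertiaR_eigen r j v hv, Nat.descFactorial_eq_zero_iff_lt.mpr (by omega)]; simp)]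
  have : ∀ r ∈ Finset.range (j + 1), coef k r • inertiaR r v =
      (((-1 : ℚ) ^ (r + k)) * (r.choose k : ℚ) * (j.choose r : ℚ)) • v := by
    intro r _
    rw [inertiaR_eigen r j v hv, smul_smul, Nat.descFactorial_eq_factorial_mul_choose, coef]
    congr 1
    have : (r.factorial : ℚ) ≠ 0 := Nat.cast_ne_zero.mpr r.factorial_ne_zero
    rw [Nat.cast_mul]
    field_simp
  rw [Finset.sum_congr rfl this, ← Finset.sum_smul, alternating_choose]
  split_ifs <;> simp

theorem proj_zero (k : ℕ) : proj k 0 = 0 := by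
  rw [proj_eq_sum k 0 (N := 0) (fun r _ => map_zero _)]; simp

theorem proj_mem (k : ℕ) (v : K) : proj k v ∈ Module.End.eigenspace inertia (k : ℚ) := by
  refine eigGe_induction (P := fun v => proj k v ∈ Module.End.eigenspace inertia (k : ℚ)) v
    (by rw [proj_zero]; exact zero_mem _) (fun x y hx hy => by rw [proj_add]; exact add_mem hx hy) ?_
  intro j _ x hx
  rw [proj_eigen k j x hx]
  split_ifs with h
  · subst h; exact Module.End.mem_eigenspace_iff.mpr hx
  · exact zero_mem _

theorem proj_support (v : K) :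
    (Function.support fun k => proj k v).Finite ∧ ∑ᶠ k, proj k v = v := by
  refine eigGe_induction (P := fun v => (Function.support fun k => proj k v).Finite ∧ ∑ᶠ k, proj k v = v) v
    ⟨by simp [proj_zero], by simp [proj_zero]⟩ ?_ ?_
  · rintro x y ⟨fx, ex⟩ ⟨fy, ey⟩
    simp only [proj_add]
    refine ⟨(fx.union fy).subset (Function.support_add _ _), ?_⟩
    rw [finsum_add_distrib fx fy, ex, ey]
  · intro j _ x hx
    simp only [proj_eigen _ j x hx]
    refine ⟨(Set.finite_singleton j).subset fun k hk => ?_, ?_⟩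
    · simp only [Function.mem_support, ne_eq] at hk
      by_contra h
      exact hk (if_neg (Ne.symm h))
    · rw [finsum_eq_single _ j (fun k hk => if_neg (Ne.symm hk)), if_pos rfl]

end Groth.Agent.Inertia52
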